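import Groth.Agent.Lib.Dim.Basic
import Groth.Agent.Lib.ProjSpace.Dim
import Groth.Prelude.Def_Cyc
import Mathlib.AlgebraicGeometry.AlgClosed.Basic
import Mathlib.AlgebraicGeometry.ResidueField
import Mathlib.RingTheory.Spectrum.Prime.RingHom

/-!
# The dimension of the closure of a point of a scheme locally of finite type over a field

* `kToRes f x : k ⟶ κ(x)`; `tdeg f x = trdeg_k κ(x)`, a natural number (`tdeg_eq_natTdeg`).
* `topologicalKrullDim_closure_singleton`: `dim closure {x} = trdeg_k κ(x)`.
* `natTdeg_eq_of_residueDegree_ne_zero`: finite residue extensions preserve it.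
* over an algebraically closed field `residueDegree_of_isClosed`, `natTdeg_eq_zero_iff_isClosed`.
-/

universe u

open CategoryTheory AlgebraicGeometry TopologicalSpace

noncomputable section

namespace Groth.Agent.Lib.PointDim.Basic

variable {k : Type u} [Field k]

/-- `k ⟶ κ(x)`. -/
def kToRes {X : Scheme.{u}} (f : X ⟶ Spec (CommRingCat.of k)) (x : X) :
    CommRingCat.of k ⟶ X.residueField x :=
  Spec.preimage (X.fromSpecResidueField x ≫ f)

@[simp]
theorem specMap_kToRes {X : Scheme.{u}} (f : X ⟶ Spec (CommRingCat.of k)) (x : X) :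
    Spec.map (kToRes f x) = X.fromSpecResidueField x ≫ f :=
  Spec.map_preimage _

theorem kToRes_comp {X Y : Scheme.{u}} (g : X ⟶ Y) (fY : Y ⟶ Spec (CommRingCat.of k))
    (f : X ⟶ Spec (CommRingCat.of k)) (h : g ≫ fY = f) (x : X) :
    kToRes f x = kToRes fY (g x) ≫ g.residueFieldMap x := by
  apply Spec.map_injective
  rw [Spec.map_comp, specMap_kToRes, specMap_kToRes, ← Category.assoc,
    Scheme.Hom.SpecMap_residueFieldMap_fromSpecResidueField, Category.assoc, h]

theorem kToRes_specMap {A : CommRingCat.{u}} (φ : CommRingCat.of k ⟶ A) (p : PrimeSpectrum A) :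
    kToRes (Spec.map φ) p = φ ≫ CommRingCat.ofHom (algebraMap A p.asIdeal.ResidueField) ≫
      (Scheme.Spec.residueFieldIso A p).inv := by
  apply Spec.map_injective
  erw [specMap_kToRes, Spec.map_comp, Spec.map_comp]
  erw [← Scheme.Spec.map_residueFieldIso_inv_eq_fromSpecResidueField A p]

/-- `trdeg_k κ(x)`. -/
def tdeg {X : Scheme.{u}} (f : X ⟶ Spec (CommRingCat.of k)) (x : X) : Cardinal.{u} :=
  letI := (kToRes f x).hom.toAlgebra
  Algebra.trdeg k (X.residueField x)

/-- `trdeg_k κ(x)` as a natural number. -/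
def natTdeg {X : Scheme.{u}} (f : X ⟶ Spec (CommRingCat.of k)) (x : X) : ℕ :=
  (tdeg f x).toNat

theorem tdeg_eq_of_algEquiv {X : Scheme.{u}} (f : X ⟶ Spec (CommRingCat.of k)) (x : X)
    {L : Type u} [Field L] [Algebra k L] (e : L ≃+* X.residueField x)
    (he : ∀ a : k, e (algebraMap k L a) = kToRes f x a) : tdeg f x = Algebra.trdeg k L := by
  let : Algebra k (X.residueField x) := (kToRes f x).hom.toAlgebra
  exact ((AlgEquiv.ofRingEquiv (f := e) he).trdeg_eq).symm

theorem tdeg_comp_of_finite {X Y : Scheme.{u}} (g : X ⟶ Y) (fY : Y ⟶ Spec (CommRingCat.of k))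
    (f : X ⟶ Spec (CommRingCat.of k)) (h : g ≫ fY = f) (x : X)
    (halg : letI := (g.residueFieldMap x).hom.toAlgebra
      Algebra.IsAlgebraic (Y.residueField (g x)) (X.residueField x)) :
    tdeg f x = tdeg fY (g x) := by
  let : Algebra k (X.residueField x) := (kToRes f x).hom.toAlgebra
  let : Algebra k (Y.residueField (g x)) := (kToRes fY (g x)).hom.toAlgebra
  let : Algebra (Y.residueField (g x)) (X.residueField x) := (g.residueFieldMap x).hom.toAlgebra
  have : IsScalarTower k (Y.residueField (g x)) (X.residueField x) :=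
    IsScalarTower.of_algebraMap_eq fun a => congr($(kToRes_comp g fY f h x).hom a)
  have h' := trdeg_add_eq k (Y.residueField (g x)) (A := X.residueField x)
  rw [trdeg_eq_zero (R := Y.residueField (g x)), add_zero] at h'
  exact h'.symm

theorem tdeg_openImmersion {X Y : Scheme.{u}} (g : X ⟶ Y) [IsOpenImmersion g]
    (fY : Y ⟶ Spec (CommRingCat.of k)) (f : X ⟶ Spec (CommRingCat.of k)) (h : g ≫ fY = f) (x : X) :
    tdeg f x = tdeg fY (g x) := by
  refine tdeg_comp_of_finite g fY f h x ?_
  let : Algebra (Y.residueField (g x)) (X.residueField x) := (g.residueFieldMap x).hom.toAlgebra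
  have hb : Function.Surjective (algebraMap (Y.residueField (g x)) (X.residueField x)) :=
    ((asIso (g.residueFieldMap x)).commRingCatIsoToRingEquiv).surjective
  have : Algebra.IsIntegral (Y.residueField (g x)) (X.residueField x) :=
    Algebra.isIntegral_of_surjective hb
  exact Algebra.IsIntegral.isAlgebraic

/-- An affine chart at a point, with everything identified. -/
theorem exists_chart {X : Scheme.{u}} (f : X ⟶ Spec (CommRingCat.of k)) [LocallyOfFiniteType f]
    (y : X) : ∃ (A : CommRingCat.{u}) (ι : Spec A ⟶ X), IsOpenImmersion ι ∧ y ∈ Set.range ι ∧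
      ∃ φ : CommRingCat.of k ⟶ A, φ.hom.FiniteType ∧ ι ≫ f = Spec.map φ := by
  obtain ⟨R, g, hg, hy, -⟩ :=
    Scheme.exists_affine_mem_range_and_range_subset (U := (⊤ : X.Opens)) (x := y) trivial
  have := hg
  refine ⟨R, g, hg, hy, Spec.preimage (g ≫ f), ?_, (Spec.map_preimage _).symm⟩
  rw [← HasRingHomProperty.Spec_iff (P := @LocallyOfFiniteType)]
  rw [Spec.map_preimage]
  infer_instance

theorem tdeg_chart {X : Scheme.{u}} (f : X ⟶ Spec (CommRingCat.of k)) {A : CommRingCat.{u}}
    (ι : Spec A ⟶ X) [IsOpenImmersion ι] (φ : CommRingCat.of k ⟶ A) (hφ : φ.hom.FiniteType)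
    (h : ι ≫ f = Spec.map φ) (p : PrimeSpectrum A) :
    letI := φ.hom.toAlgebra
    tdeg f (ι p) = (Groth.Agent.Lib.Dim.Basic.dimQ k p.asIdeal : Cardinal) := by
  let : Algebra k A := φ.hom.toAlgebra
  have : Algebra.FiniteType k A := hφ
  rw [← tdeg_openImmersion ι f (Spec.map φ) h p,
    ← Groth.Agent.Lib.Dim.Basic.trdeg_residueField k p.asIdeal]
  refine tdeg_eq_of_algEquiv _ _ (Scheme.Spec.residueFieldIso A p).symm.commRingCatIsoToRingEquiv
    fun a => ?_
  rw [kToRes_specMap]
  rfl

theorem tdeg_eq_natTdeg {X : Scheme.{u}} (f : X ⟶ Spec (CommRingCat.of k)) [LocallyOfFiniteType f]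
    (x : X) : tdeg f x = (natTdeg f x : Cardinal) := by
  obtain ⟨A, ι, _, ⟨p, rfl⟩, φ, hφ, h⟩ := exists_chart f x
  rw [natTdeg, tdeg_chart f ι φ hφ h p]
  simp

/-- `dim closure {x} = trdeg_k κ(x)`. -/
theorem topologicalKrullDim_closure_singleton {X : Scheme.{u}} (f : X ⟶ Spec (CommRingCat.of k))
    [LocallyOfFiniteType f] (x : X) :
    topologicalKrullDim ↥(closure ({x} : Set X)) = (natTdeg f x : WithBot ℕ∞) := by
  let C := ↥(closure ({x} : Set X))
  choose A ι hι hmem φ hφ h using fun y : C => exists_chart f y.1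
  have hx : ∀ y : C, ∃ p : PrimeSpectrum (A y), ι y p = x := fun y => by
    have := hι y
    obtain ⟨z, hz, hz'⟩ := mem_closure_iff.mp y.2 _ (ι y).isOpenEmbedding.isOpen_range (hmem y)
    rw [Set.mem_singleton_iff.mp hz'] at hz
    exact hz
  choose p hp using hx
  let e : ∀ y : C, PrimeSpectrum (A y ⧸ (p y).asIdeal) → X := fun y q =>
    ι y (PrimeSpectrum.comap (Ideal.Quotient.mk (p y).asIdeal) q)
  have hei : ∀ y, Topology.IsEmbedding (e y) := fun y => by
    have := hι y
    exact (ι y).isOpenEmbedding.isEmbedding.comp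
      (PrimeSpectrum.isClosedEmbedding_comap_of_surjective _ _ Ideal.Quotient.mk_surjective).isEmbedding
  have her : ∀ y, Set.range (e y) = closure {x} ∩ Set.range (ι y) := fun y => by
    have := hι y
    show Set.range (fun q => ι y (PrimeSpectrum.comap (Ideal.Quotient.mk (p y).asIdeal) q)) = _
    have h1 : closure ({p y} : Set (PrimeSpectrum (A y))) = ι y ⁻¹' closure ({x} : Set X) := by
      refine ((ι y).isOpenEmbedding.isInducing.closure_eq_preimage_closure_image _).trans ?_
      erw [Set.image_singleton, hp]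
    rw [Set.range_comp' (ι y) (PrimeSpectrum.comap (Ideal.Quotient.mk (p y).asIdeal))]
    erw [range_comap_of_surjective _ _ Ideal.Quotient.mk_surjective,
      Ideal.mk_ker, ← PrimeSpectrum.closure_singleton, h1]
    exact Set.image_preimage_eq_inter_range
  let g : ∀ y : C, PrimeSpectrum (A y ⧸ (p y).asIdeal) → C := fun y q =>
    ⟨e y q, ((her y).le ⟨q, rfl⟩).1⟩
  have hg : ∀ y, Topology.IsOpenEmbedding (g y) := fun y => by
    refine ⟨(hei y).codRestrict _ _, ?_⟩
    have := hι y
    have : Set.range (g y) = Subtype.val ⁻¹' Set.range (ι y) := by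
      ext ⟨z, hz⟩
      constructor
      · rintro ⟨q, hq⟩
        exact ((her y).le ⟨q, congrArg Subtype.val hq⟩).2
      · intro hz'
        obtain ⟨q, hq⟩ := (her y).ge ⟨hz, hz'⟩
        exact ⟨q, Subtype.ext hq⟩
    rw [this]
    exact (ι y).isOpenEmbedding.isOpen_range.preimage continuous_subtype_val
  have hd : ∀ y, topologicalKrullDim (PrimeSpectrum (A y ⧸ (p y).asIdeal)) =
      (natTdeg f x : WithBot ℕ∞) := fun y => by
    have := hι y
    let : Algebra k (A y) := (φ y).hom.toAlgebra
    have : Algebra.FiniteType k (A y) := hφ y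
    rw [PrimeSpectrum.topologicalKrullDim_eq_ringKrullDim,
      Groth.Agent.Lib.Dim.Basic.ringKrullDim_quotient_prime k, natTdeg, ← hp y,
      tdeg_chart f (ι y) (φ y) (hφ y) (h y) (p y), Cardinal.toNat_natCast]
  refine le_antisymm (Groth.Agent.Lib.ProjSpace.Dim.topologicalKrullDim_le_of_cover g hg
    (fun y => ?_) fun y => (hd y).le) ?_
  · obtain ⟨q, hq⟩ := (her y).ge ⟨y.2, hmem y⟩
    exact ⟨y, q, Subtype.ext hq⟩
  · exact (hd ⟨x, subset_closure rfl⟩).ge.trans (hg _).isInducing.topologicalKrullDim_le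

theorem natTdeg_eq_of_residueDegree_ne_zero {X Y : Scheme.{u}} (g : X ⟶ Y)
    (fY : Y ⟶ Spec (CommRingCat.of k)) (f : X ⟶ Spec (CommRingCat.of k)) (h : g ≫ fY = f) (x : X)
    (hd : g.residueDegree x ≠ 0) : natTdeg f x = natTdeg fY (g x) := by
  refine congrArg Cardinal.toNat (tdeg_comp_of_finite g fY f h x ?_)
  let : Algebra (Y.residueField (g x)) (X.residueField x) := (g.residueFieldMap x).hom.toAlgebra
  have : Module.Finite (Y.residueField (g x)) (X.residueField x) :=
    Module.finite_of_finrank_pos (Nat.pos_of_ne_zero hd)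
  infer_instance

theorem kToRes_id_bijective (x : PrimeSpectrum k) :
    Function.Bijective (kToRes (𝟙 (Spec (CommRingCat.of k))) x) := by
  have hx : x.asIdeal = ⊥ := (Ideal.eq_bot_or_top x.asIdeal).resolve_right x.isPrime.ne_top
  have h2 : Function.Surjective (algebraMap k x.asIdeal.ResidueField) := by
    have hm : x.asIdeal.IsMaximal := hx ▸ Ideal.bot_isMaximal
    intro a
    obtain ⟨b, rfl⟩ := (Ideal.bijective_algebraMap_quotient_residueField x.asIdeal).2 a
    obtain ⟨c, rfl⟩ := Ideal.Quotient.mk_surjective b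
    exact ⟨c, rfl⟩
  rw [show kToRes (𝟙 (Spec (CommRingCat.of k))) x = CommRingCat.ofHom (algebraMap k x.asIdeal.ResidueField) ≫
      (Scheme.Spec.residueFieldIso (CommRingCat.of k) x).inv by
    have := kToRes_specMap (𝟙 (CommRingCat.of k)) x
    rw [Spec.map_id, Category.id_comp] at this
    exact this]
  refine ⟨fun a b hab => ?_, (Scheme.Spec.residueFieldIso (CommRingCat.of k) x).symm.commRingCatIsoToRingEquiv.surjective.comp h2⟩
  exact (algebraMap k x.asIdeal.ResidueField).injective
    ((Scheme.Spec.residueFieldIso (CommRingCat.of k) x).symm.commRingCatIsoToRingEquiv.injective hab)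

theorem kToRes_eq_residueFieldMap {X : Scheme.{u}} (f : X ⟶ Spec (CommRingCat.of k)) (x : X) :
    kToRes f x = kToRes (𝟙 (Spec (CommRingCat.of k))) (f x) ≫ f.residueFieldMap x :=
  kToRes_comp f (𝟙 _) f (Category.comp_id f) x

/-- The prelude's transcendence degree over `κ(f x)` is `tdeg`. -/
theorem trdeg_residueFieldMap {X : Scheme.{u}} (f : X ⟶ Spec (CommRingCat.of k)) (x : X) :
    (letI := (f.residueFieldMap x).hom.toAlgebra
     Algebra.trdeg ((Spec (CommRingCat.of k)).residueField (f x)) (X.residueField x)) = tdeg f x := by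
  let : Algebra k (X.residueField x) := (kToRes f x).hom.toAlgebra
  let : Algebra ((Spec (CommRingCat.of k)).residueField (f x)) (X.residueField x) :=
    (f.residueFieldMap x).hom.toAlgebra
  let : Algebra k ((Spec (CommRingCat.of k)).residueField (f x)) :=
    (kToRes (𝟙 (Spec (CommRingCat.of k))) (f x)).hom.toAlgebra
  have : IsScalarTower k ((Spec (CommRingCat.of k)).residueField (f x)) (X.residueField x) :=
    IsScalarTower.of_algebraMap_eq fun a => congr($(kToRes_eq_residueFieldMap f x).hom a)
  have : Algebra.IsIntegral k ((Spec (CommRingCat.of k)).residueField (f x)) :=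
    Algebra.isIntegral_of_surjective (kToRes_id_bijective (f x)).2
  have : Algebra.IsAlgebraic k ((Spec (CommRingCat.of k)).residueField (f x)) :=
    Algebra.IsIntegral.isAlgebraic
  have h' := trdeg_add_eq k ((Spec (CommRingCat.of k)).residueField (f x)) (A := X.residueField x)
  rw [trdeg_eq_zero (R := k) (A := (Spec (CommRingCat.of k)).residueField (f x)), zero_add] at h'
  exact h'

/-- The dimension function induced from weight `0` is `trdeg_k κ(x)`. -/
theorem delta_eq_natTdeg {X : Scheme.{u}} (f : X ⟶ Spec (CommRingCat.of k)) (δ : X → ℤ)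
    (hδ : Cyc.DeltaCompat f δ (fun _ => 0)) (x : X) : δ x = natTdeg f x := by
  obtain ⟨n, hn, hx⟩ := hδ x
  rw [trdeg_residueFieldMap] at hn
  rw [hx, natTdeg, hn, Cardinal.toNat_natCast, zero_add]

theorem residueDegree_eq_one_of_kToRes_bijective {X : Scheme.{u}}
    (f : X ⟶ Spec (CommRingCat.of k)) (x : X) (hb : Function.Bijective (kToRes f x)) :
    f.residueDegree x = 1 := by
  unfold Scheme.Hom.residueDegree
  let : Algebra ((Spec (CommRingCat.of k)).residueField (f x)) (X.residueField x) :=
    (f.residueFieldMap x).hom.toAlgebra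
  have hs : Function.Surjective (algebraMap ((Spec (CommRingCat.of k)).residueField (f x))
      (X.residueField x)) := fun a => by
    obtain ⟨c, hc⟩ := hb.2 a
    refine ⟨kToRes (𝟙 (Spec (CommRingCat.of k))) (f x) c, ?_⟩
    rw [← hc, kToRes_eq_residueFieldMap f x]
    rfl
  have e : (Spec (CommRingCat.of k)).residueField (f x) ≃ₗ[(Spec (CommRingCat.of k)).residueField (f x)]
      X.residueField x :=
    LinearEquiv.ofBijective (Algebra.linearMap _ _) ⟨RingHom.injective _, hs⟩
  exact e.finrank_eq.symm.trans (Module.finrank_self _)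

variable [IsAlgClosed k]

theorem kToRes_bijective_of_isClosed {X : Scheme.{u}} (f : X ⟶ Spec (CommRingCat.of k))
    [LocallyOfFiniteType f] (x : X) (hx : IsClosed ({x} : Set X)) :
    Function.Bijective (kToRes f x) := by
  have : kToRes f x = (residueFieldIsoBase f x hx).inv := by
    apply Spec.map_injective
    rw [specMap_kToRes, SpecMap_residueFieldIsoBase_inv]
  rw [this]
  exact (residueFieldIsoBase f x hx).symm.commRingCatIsoToRingEquiv.bijective

theorem residueDegree_of_isClosed {X : Scheme.{u}} (f : X ⟶ Spec (CommRingCat.of k))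
    [LocallyOfFiniteType f] (x : X) (hx : IsClosed ({x} : Set X)) : f.residueDegree x = 1 :=
  residueDegree_eq_one_of_kToRes_bijective f x (kToRes_bijective_of_isClosed f x hx)

omit [IsAlgClosed k] in
theorem isClosed_iff_natTdeg_eq_zero {X : Scheme.{u}} (f : X ⟶ Spec (CommRingCat.of k))
    [LocallyOfFiniteType f] (x : X) : IsClosed ({x} : Set X) ↔ natTdeg f x = 0 := by
  constructor
  · intro hx
    have : Subsingleton ↥(closure ({x} : Set X)) := by
      rw [hx.closure_eq]; infer_instance
    have h := topologicalKrullDim_closure_singleton f x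
    have h2 : topologicalKrullDim ↥(closure ({x} : Set X)) ≤ 0 :=
      topologicalKrullDim_zero_of_discreteTopology _
    rw [h] at h2
    exact Nat.le_zero.mp (by exact_mod_cast h2)
  · intro h0
    rw [← closure_subset_iff_isClosed]
    intro y hy
    obtain ⟨A, ι, _, ⟨q, rfl⟩, φ, hφ, h⟩ := exists_chart f y
    have hs : x ⤳ ι q := specializes_iff_mem_closure.mpr hy
    obtain ⟨p, rfl⟩ := hs.mem_open ι.isOpenEmbedding.isOpen_range ⟨q, rfl⟩
    change PrimeSpectrum A at p q
    let : Algebra k A := φ.hom.toAlgebra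
    have : Algebra.FiniteType k A := hφ
    rw [natTdeg, tdeg_chart f ι φ hφ h p, Cardinal.toNat_natCast] at h0
    have hle : p.asIdeal ≤ q.asIdeal :=
      (PrimeSpectrum.le_iff_specializes p q).mpr (ι.isOpenEmbedding.isInducing.specializes_iff.mp hs)
    by_contra hne
    have hlt : p.asIdeal < q.asIdeal := lt_of_le_of_ne hle fun he =>
      hne (by rw [PrimeSpectrum.ext he]; rfl)
    have := Groth.Agent.Lib.Dim.Basic.dimQ_lt_of_lt k hlt
    omega

end Groth.Agent.Lib.PointDim.Basic
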