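import Groth.Agent.Lib.PointDim.Basic
import Mathlib.FieldTheory.IntermediateField.Adjoin.Basic
import Mathlib.AlgebraicGeometry.PullbackCarrier

/-!
# Residue fields: compositum at a point of a fibre product, power maps, finite generation

* `closure_range_union_eq_top`: the residue field of a point of `X ×_S Y` is generated by those of the
  images.
* `range_residueFieldMap_of_pow`: an endomorphism raising sections to the `q`-th power has residue
  maps with image the `q`-th powers.
* `exists_finset_adjoin_eq_top`, `eq_of_specializes_of_natTdeg_eq`.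
-/

universe u

open CategoryTheory AlgebraicGeometry TopologicalSpace

noncomputable section

namespace Groth.Agent.Lib.PointDim.Residue

open Groth.Agent.Lib.PointDim.Basic

theorem exists_factor {X : Scheme.{u}} {x : X} {M : Type u} [Field M]
    (ψ : CommRingCat.of M ⟶ X.residueField x) (g : Spec (CommRingCat.of M) ⟶ X)
    (h : Spec.map ψ ≫ g = X.fromSpecResidueField x) : Function.Surjective ψ := by
  have hx : g (IsLocalRing.closedPoint M) = x := by
    obtain ⟨s⟩ : Nonempty (Spec (X.residueField x)) := inferInstance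
    have := congr($h s)
    rw [Scheme.Hom.comp_apply, Scheme.fromSpecResidueField_apply] at this
    rwa [Subsingleton.elim (IsLocalRing.closedPoint M) ((Spec.map ψ) s)]
  subst hx
  set χ := X.descResidueField (Scheme.stalkClosedPointTo g)
  have hg : Spec.map χ ≫ X.fromSpecResidueField _ = g :=
    X.descResidueField_stalkClosedPointTo_fromSpecResidueField M g
  have hid : Spec.map ψ ≫ Spec.map χ = 𝟙 _ := by
    rw [← cancel_mono (X.fromSpecResidueField (g (IsLocalRing.closedPoint M))), Category.assoc, hg,
      Category.id_comp, h]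
  rw [← Spec.map_comp, ← Spec.map_id, Spec.map_inj] at hid
  intro a
  exact ⟨χ a, congr($hid a)⟩

theorem hom_ext_field {S : Scheme.{u}} {M : Type u} [Field M] {L : CommRingCat.{u}}
    (ψ : CommRingCat.of M ⟶ L) (hψ : Function.Injective ψ) (g₁ g₂ : Spec (CommRingCat.of M) ⟶ S)
    (hpt : g₁ (IsLocalRing.closedPoint M) = g₂ (IsLocalRing.closedPoint M))
    (h : Spec.map ψ ≫ g₁ = Spec.map ψ ≫ g₂) : g₁ = g₂ := by
  have e₁ := S.descResidueField_stalkClosedPointTo_fromSpecResidueField M g₁
  have e₂ := S.descResidueField_stalkClosedPointTo_fromSpecResidueField M g₂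
  set χ₁ := S.descResidueField (Scheme.stalkClosedPointTo g₁)
  set χ₂ := (S.residueFieldCongr hpt).hom ≫ S.descResidueField (Scheme.stalkClosedPointTo g₂)
  have e₂' : Spec.map χ₂ ≫ S.fromSpecResidueField _ = g₂ := by
    rw [Spec.map_comp, Category.assoc, Scheme.residueFieldCongr_fromSpecResidueField, e₂]
  rw [← e₁, ← e₂'] at h ⊢
  rw [← Category.assoc, ← Category.assoc, cancel_mono, ← Spec.map_comp, ← Spec.map_comp,
    Spec.map_inj] at h
  congr 2
  ext a
  exact hψ congr($h a)

/-- The residue field of a point of a fibre product is generated by the residue fields of its images. -/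
theorem closure_range_union_eq_top {P X Y S : Scheme.{u}} {p : P ⟶ X} {q : P ⟶ Y} {f : X ⟶ S}
    {g : Y ⟶ S} (h : IsPullback p q f g) (z : P) :
    Subfield.closure (Set.range (p.residueFieldMap z) ∪ Set.range (q.residueFieldMap z) :
      Set (P.residueField z)) = ⊤ := by
  set M := Subfield.closure (Set.range (p.residueFieldMap z) ∪ Set.range (q.residueFieldMap z) :
    Set (P.residueField z))
  let ψ : CommRingCat.of M ⟶ P.residueField z := CommRingCat.ofHom M.subtype
  let a : X.residueField (p z) ⟶ CommRingCat.of M := CommRingCat.ofHom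
    ((p.residueFieldMap z).hom.codRestrict M fun x => Subfield.subset_closure (Or.inl ⟨x, rfl⟩))
  let b : Y.residueField (q z) ⟶ CommRingCat.of M := CommRingCat.ofHom
    ((q.residueFieldMap z).hom.codRestrict M fun x => Subfield.subset_closure (Or.inr ⟨x, rfl⟩))
  have ha : a ≫ ψ = p.residueFieldMap z := rfl
  have hb : b ≫ ψ = q.residueFieldMap z := rfl
  let u := Spec.map a ≫ X.fromSpecResidueField (p z)
  let v := Spec.map b ≫ Y.fromSpecResidueField (q z)
  have hu : Spec.map ψ ≫ u = P.fromSpecResidueField z ≫ p := by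
    rw [← Category.assoc, ← Spec.map_comp, ha]
    exact Scheme.Hom.SpecMap_residueFieldMap_fromSpecResidueField p z
  have hv : Spec.map ψ ≫ v = P.fromSpecResidueField z ≫ q := by
    rw [← Category.assoc, ← Spec.map_comp, hb]
    exact Scheme.Hom.SpecMap_residueFieldMap_fromSpecResidueField q z
  have hψ : Function.Injective ψ := fun _ _ e => Subtype.ext e
  have huv : u ≫ f = v ≫ g := by
    have h1 : (u ≫ f) (IsLocalRing.closedPoint M) = (v ≫ g) (IsLocalRing.closedPoint M) := by
      obtain ⟨s⟩ : Nonempty (Spec (P.residueField z)) := inferInstance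
      rw [Subsingleton.elim (IsLocalRing.closedPoint M) ((Spec.map ψ) s), ← Scheme.Hom.comp_apply,
        ← Scheme.Hom.comp_apply, reassoc_of% hu, reassoc_of% hv, h.w]
    have h2 : Spec.map ψ ≫ (u ≫ f) = Spec.map ψ ≫ (v ≫ g) := by
      rw [reassoc_of% hu, reassoc_of% hv, h.w]
    exact hom_ext_field ψ hψ (u ≫ f) (v ≫ g) h1 h2
  have key := exists_factor ψ (h.lift u v huv) (by
    refine h.hom_ext ?_ ?_
    · rw [Category.assoc, h.lift_fst, hu]
    · rw [Category.assoc, h.lift_snd, hv])
  exact eq_top_iff.mpr fun x _ => by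
    obtain ⟨⟨y, hy⟩, rfl⟩ := key x
    exact hy

theorem range_residueFieldMap_congr {X Y : Scheme.{u}} {f g : X ⟶ Y} (e : f = g) (x : X) :
    Set.range (f.residueFieldMap x) = Set.range (g.residueFieldMap x) := by
  subst e; rfl

/-- If `φ` raises sections to the `q`-th power, so do its residue maps. -/
theorem range_residueFieldMap_of_pow {X : Scheme.{u}} (φ : X ⟶ X) (hle : ∀ U : X.Opens, U ≤ φ ⁻¹ᵁ U)
    (hb : ∀ x, φ x = x) (q : ℕ)
    (happ : ∀ (U : X.Opens) (s : Γ(X, U)), (φ.appLE U U (hle U)).hom s = s ^ q) (y : X) :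
    Set.range (φ.residueFieldMap y) = Set.range fun a : X.residueField y => a ^ q := by
  have key : ∀ (U : X.Opens) (hy : y ∈ U) (s : Γ(X, U)),
      φ.residueFieldMap y (X.evaluation U (φ y) ((hb y).symm ▸ hy) s) = X.evaluation U y hy s ^ q := by
    intro U hy s
    rw [Scheme.evaluation_naturality_apply φ y]
    have h2 : X.evaluation U y hy ((φ.appLE U U (hle U)) s) =
        X.evaluation (φ ⁻¹ᵁ U) y ((hle U) hy) (φ.app U s) := by
      show X.residue y (X.presheaf.germ U y hy (X.presheaf.map (homOfLE (hle U)).op (φ.app U s))) = _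
      rw [X.presheaf.germ_res_apply]
      rfl
    rw [← h2, happ U s, map_pow]
  have surj : ∀ (x : X) (a : X.residueField x), ∃ (U : X.Opens) (hx : x ∈ U) (s : Γ(X, U)),
      X.evaluation U x hx s = a := by
    intro x a
    obtain ⟨b, rfl⟩ := X.residue_surjective x a
    obtain ⟨U, hx, s, rfl⟩ := X.presheaf.exists_germ_eq b
    exact ⟨U, hx, s, rfl⟩
  ext b
  constructor
  · rintro ⟨a, rfl⟩
    obtain ⟨U, hU, s, rfl⟩ := surj _ a
    exact ⟨X.evaluation U y ((hb y) ▸ hU) s, (key U _ s).symm⟩
  · rintro ⟨a, rfl⟩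
    obtain ⟨U, hU, s, rfl⟩ := surj _ a
    exact ⟨_, key U hU s⟩

variable {k : Type u} [Field k]

/-- Residue fields are finitely generated over the base field. -/
theorem exists_finset_adjoin_eq_top {X : Scheme.{u}} (f : X ⟶ Spec (CommRingCat.of k))
    [LocallyOfFiniteType f] (x : X) :
    letI := (kToRes f x).hom.toAlgebra
    ∃ t : Finset (X.residueField x), IntermediateField.adjoin k (t : Set (X.residueField x)) = ⊤ := by
  classical
  let : Algebra k (X.residueField x) := (kToRes f x).hom.toAlgebra
  obtain ⟨A, ι, _, ⟨p, rfl⟩, φ, hφ, h⟩ := exists_chart f x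
  let : Algebra k A := φ.hom.toAlgebra
  have hA : Algebra.FiniteType k A := hφ
  obtain ⟨s, hs⟩ := hA.out
  let e2 := asIso (ι.residueFieldMap p)
  change PrimeSpectrum A at p
  let e1 := Scheme.Spec.residueFieldIso A p
  let L := (p : PrimeSpectrum A).asIdeal.ResidueField
  let e : L ≃+* X.residueField (ι p) :=
    e1.symm.commRingCatIsoToRingEquiv.trans e2.symm.commRingCatIsoToRingEquiv
  have he : ∀ a : k, e (algebraMap A L (φ a)) = kToRes f (ι p) a := by
    intro a
    have h1 := congr($(kToRes_comp ι f (Spec.map φ) h p).hom a)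
    rw [kToRes_specMap] at h1
    show e2.inv (e1.inv (algebraMap A L (φ a))) = kToRes f (ι p) a
    have h3 : e1.inv (algebraMap A L (φ a)) = e2.hom (kToRes f (ι p) a) := by
      exact h1
    rw [h3]
    exact congr($(e2.hom_inv_id).hom (kToRes f (ι p) a))
  refine ⟨s.image fun a => e (algebraMap A L a), eq_top_iff.mpr fun y _ => ?_⟩
  set F := IntermediateField.adjoin k (↑(s.image fun a => e (algebraMap A L a)) : Set (X.residueField (ι p)))
  have hA' : ∀ a : A, e (algebraMap A L a) ∈ F := by
    intro a
    have ha : a ∈ Algebra.adjoin k (s : Set A) := by rw [hs]; trivial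
    induction ha using Algebra.adjoin_induction with
    | mem a ha =>
      exact IntermediateField.subset_adjoin k _ (Finset.mem_coe.mpr (Finset.mem_image_of_mem _ ha))
    | algebraMap c => rw [show algebraMap k A c = φ c from rfl, he c]; exact F.algebraMap_mem c
    | add a b _ _ ha hb => rw [map_add, map_add]; exact add_mem ha hb
    | mul a b _ _ ha hb => rw [map_mul, map_mul]; exact mul_mem ha hb
  obtain ⟨z, rfl⟩ := e.surjective y
  obtain ⟨a, b, hb, hab⟩ := IsFractionRing.div_surjective (A := A ⧸ (p : PrimeSpectrum A).asIdeal) z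
  obtain ⟨a, rfl⟩ := Ideal.Quotient.mk_surjective a
  obtain ⟨b, rfl⟩ := Ideal.Quotient.mk_surjective b
  rw [← hab, map_div₀]
  exact div_mem (hA' a) (hA' b)

/-- A specialization keeping the transcendence degree is trivial. -/
theorem eq_of_specializes_of_natTdeg_eq {X : Scheme.{u}} (f : X ⟶ Spec (CommRingCat.of k))
    [LocallyOfFiniteType f] {x y : X} (hs : x ⤳ y) (hd : natTdeg f x = natTdeg f y) : x = y := by
  obtain ⟨A, ι, _, ⟨q, rfl⟩, φ, hφ, h⟩ := exists_chart f y
  obtain ⟨p, rfl⟩ := hs.mem_open ι.isOpenEmbedding.isOpen_range ⟨q, rfl⟩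
  change PrimeSpectrum A at p q
  let : Algebra k A := φ.hom.toAlgebra
  have : Algebra.FiniteType k A := hφ
  rw [natTdeg, natTdeg, tdeg_chart f ι φ hφ h p, tdeg_chart f ι φ hφ h q, Cardinal.toNat_natCast,
    Cardinal.toNat_natCast] at hd
  have hle : p.asIdeal ≤ q.asIdeal :=
    (PrimeSpectrum.le_iff_specializes p q).mpr (ι.isOpenEmbedding.isInducing.specializes_iff.mp hs)
  by_contra hne
  have hlt : p.asIdeal < q.asIdeal := lt_of_le_of_ne hle fun he =>
    hne (by rw [PrimeSpectrum.ext he])
  have := Groth.Agent.Lib.Dim.Basic.dimQ_lt_of_lt k hlt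
  omega

end Groth.Agent.Lib.PointDim.Residue
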